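import Mathlib
import Cfsg.Agent.Lib.ElemAbGL
import Cfsg.Agent.FastGrp
import Cfsg.Agent.Prune
set_option linter.all false
prune_inst 0x7f00000000000000000000000000000000000000000000000000000000000000000000000000000000000000000000000000000000000000000000000000000000000000000000000000000000000000003fffffffffffffffffffffffffffbeffbdffffffff
open scoped Cfsg.Agent.FastGrp

/-!
# S4908, FROB row of HN: abelian normal subgroups of a subgroup with an element of order 9 (helper388)
-/

set_option autoImplicit false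

namespace Cfsg.Agent.H388.HNF

open Subgroup

/-- a free action -/
theorem dvd_of_free {H X : Type*} [Group H] [Finite H] [MulAction H X] [Finite X]
    (h : ∀ (g : H) (x : X), g • x = x → g = 1) : Nat.card H ∣ Nat.card X := by
  classical
  have e := MulAction.selfEquivSigmaOrbitsQuotientStabilizer H X
  rw [Nat.card_congr e]
  have := Fintype.ofFinite (Quotient (MulAction.orbitRel H X))
  rw [Nat.card_sigma]
  refine Finset.dvd_sum fun ω _ => ?_
  have h1 : MulAction.stabilizer H ω.out = ⊥ := by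
    rw [eq_bot_iff]
    intro g hg
    exact mem_bot.2 (h g _ hg)
  rw [h1, ← Subgroup.index, Subgroup.index_bot]

section G

variable {G : Type*} [Group G] [Finite G]

theorem exists_npow {q g : G} (hg : g ∈ zpowers q) : ∃ n : ℕ, n < orderOf q ∧ q ^ n = g := by
  classical
  obtain ⟨n, hn, h⟩ := Finset.mem_image.1 ((mem_zpowers_iff_mem_range_orderOf (x := q) (y := g)).1 hg)
  exact ⟨n, Finset.mem_range.1 hn, h⟩

theorem zp_inv {q : G} {V : Set G} (hV : ∀ v ∈ V, q * v * q⁻¹ ∈ V) (g : G) (hg : g ∈ zpowers q) :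
    ∀ v ∈ V, g * v * g⁻¹ ∈ V := by
  have h1 : ∀ n : ℕ, ∀ v ∈ V, q ^ n * v * (q ^ n)⁻¹ ∈ V := by
    intro n
    induction n with
    | zero => intro v hv; simpa using hv
    | succ n ih =>
      intro v hv
      have h2 := hV _ (ih v hv)
      have : q ^ (n + 1) * v * (q ^ (n + 1))⁻¹ = q * (q ^ n * v * (q ^ n)⁻¹) * q⁻¹ := by
        rw [pow_succ']; group
      rw [this]
      exact h2
  obtain ⟨n, -, rfl⟩ := exists_npow hg
  exact h1 n

/-- the action of `⟨q⟩` on an invariant set by conjugation -/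
@[reducible] def zAct {q : G} {V : Set G} (hV : ∀ v ∈ V, q * v * q⁻¹ ∈ V) : MulAction (zpowers q) V where
  smul g v := ⟨(g : G) * v * (g : G)⁻¹, zp_inv hV g g.2 v v.2⟩
  one_smul v := Subtype.ext (by change (1 : G) * v * (1 : G)⁻¹ = v; group)
  mul_smul a b v := Subtype.ext (by
    change ((a : G) * b) * v * ((a : G) * b)⁻¹ = (a : G) * ((b : G) * v * (b : G)⁻¹) * (a : G)⁻¹
    group)

/-- a `3`-element acting on an invariant set -/
theorem mod_three {q : G} {n : ℕ} (hq : orderOf q = 3 ^ n) {V : Set G} (hV : ∀ v ∈ V, q * v * q⁻¹ ∈ V) :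
    Nat.card V ≡ Nat.card {v : V // q * v = v * q} [MOD 3] := by
  have f3 : Fact (Nat.Prime 3) := ⟨Nat.prime_three⟩
  let _ := zAct hV
  have hp : IsPGroup 3 (zpowers q) := IsPGroup.of_card (n := n) (by rw [Nat.card_zpowers, hq])
  have h := hp.card_modEq_card_fixedPoints (α := V)
  refine h.trans ?_
  have e : (MulAction.fixedPoints (zpowers q) V) ≃ {v : V // q * v = v * q} :=
    Equiv.subtypeEquivRight fun v => by
      constructor
      · intro hv
        have h1 := congrArg Subtype.val (hv ⟨q, mem_zpowers q⟩)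
        change q * v * q⁻¹ = v at h1
        rw [mul_inv_eq_iff_eq_mul] at h1
        exact h1
      · rintro hv ⟨g, hg⟩
        apply Subtype.ext
        change g * v * g⁻¹ = v
        rw [mul_inv_eq_iff_eq_mul]
        obtain ⟨k, rfl⟩ := mem_zpowers_iff.1 hg
        exact (show Commute q (v : G) from hv).zpow_left k
  rw [Nat.card_congr e]

/-- `9` divides the number of points moved by `q ^ 3` -/
theorem nine_dvd {q : G} (hq : orderOf q = 9) {V : Set G} (hV : ∀ v ∈ V, q * v * q⁻¹ ∈ V) :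
    9 ∣ Nat.card {v : V // ¬ q ^ 3 * v = v * q ^ 3} := by
  let W : Set G := {v | v ∈ V ∧ ¬ q ^ 3 * v = v * q ^ 3}
  have hW : ∀ v ∈ W, q * v * q⁻¹ ∈ W := by
    rintro v ⟨h1, h2⟩
    refine ⟨hV v h1, fun h3 => h2 ?_⟩
    have h4 : q ^ 3 = q * q ^ 3 * q⁻¹ := by group
    have h5 : q * q ^ 3 * q⁻¹ * (q * v * q⁻¹) = q * v * q⁻¹ * (q * q ^ 3 * q⁻¹) := by rw [← h4]; exact h3
    have h6 : q * (q ^ 3 * v) * q⁻¹ = q * (v * q ^ 3) * q⁻¹ := by
      have e1 : q * q ^ 3 * q⁻¹ * (q * v * q⁻¹) = q * (q ^ 3 * v) * q⁻¹ := by group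
      have e2 : q * v * q⁻¹ * (q * q ^ 3 * q⁻¹) = q * (v * q ^ 3) * q⁻¹ := by group
      rw [← e1, ← e2]
      exact h5
    exact mul_left_cancel (mul_right_cancel h6)
  let _ := zAct hW
  have h := dvd_of_free (H := zpowers q) (X := W) (by
    rintro ⟨g, hg⟩ ⟨v, hv1, hv2⟩ h1
    have h2 := congrArg Subtype.val h1
    change g * v * g⁻¹ = v at h2
    rw [mul_inv_eq_iff_eq_mul] at h2
    by_contra hne
    apply hv2
    obtain ⟨n, hn, rfl⟩ := exists_npow hg
    rw [hq] at hn
    have h9 : q ^ 9 = 1 := by rw [← hq]; exact pow_orderOf_eq_one q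
    have hc : Commute (q ^ n) v := h2
    -- `q ^ 3` is a power of `q ^ n`
    have key : ∃ m : ℕ, (q ^ n) ^ m = q ^ 3 := by
      have hn0 : n ≠ 0 := by rintro rfl; exact hne (Subtype.ext (pow_zero q))
      have h27 : ∀ k : ℕ, q ^ (9 * k + 3) = q ^ 3 := fun k => by rw [pow_add, pow_mul, h9, one_pow, one_mul]
      rcases (by omega : n = 1 ∨ n = 2 ∨ n = 3 ∨ n = 4 ∨ n = 5 ∨ n = 6 ∨ n = 7 ∨ n = 8) with
        rfl | rfl | rfl | rfl | rfl | rfl | rfl | rfl
      · exact ⟨3, by rw [← pow_mul]⟩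
      · exact ⟨6, by rw [← pow_mul]; exact h27 1⟩
      · exact ⟨1, by rw [← pow_mul]⟩
      · exact ⟨3, by rw [← pow_mul]; exact h27 1⟩
      · exact ⟨6, by rw [← pow_mul]; exact h27 3⟩
      · exact ⟨2, by rw [← pow_mul]; exact h27 1⟩
      · exact ⟨3, by rw [← pow_mul]; exact h27 2⟩
      · exact ⟨6, by rw [← pow_mul]; exact h27 5⟩
    obtain ⟨m, hm⟩ := key
    rw [← hm]
    exact (hc.pow_left m).eq)
  rw [Nat.card_zpowers, hq] at h
  refine h.trans (dvd_of_eq (Nat.card_congr ?_))
  exact { toFun := fun v => ⟨⟨v.1, v.2.1⟩, v.2.2⟩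
          invFun := fun v => ⟨v.1.1, v.1.2, v.2⟩
          left_inv := fun _ => rfl
          right_inv := fun _ => rfl }

/-- the numbers -/
theorem card_split {q : G} (hq : orderOf q = 9) {V : Subgroup G} (hV : ∀ v ∈ V, q * v * q⁻¹ ∈ V) :
    ∃ k : ℕ, Nat.card V = Nat.card ↥(V ⊓ centralizer ({q ^ 3} : Set G)) + 9 * k := by
  classical
  obtain ⟨k, hk⟩ := nine_dvd hq (V := (V : Set G)) hV
  refine ⟨k, ?_⟩
  rw [← hk]
  have := Fintype.ofFinite V
  have h1 := Nat.card_congr (Equiv.sumCompl fun v : (V : Set G) => q ^ 3 * (v : G) = v * q ^ 3)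
  rw [Nat.card_sum] at h1
  have h2 : Nat.card ↥(V ⊓ centralizer ({q ^ 3} : Set G)) = Nat.card {v : (V : Set G) // q ^ 3 * (v : G) = v * q ^ 3} := by
    refine Nat.card_congr ?_
    exact { toFun := fun v => ⟨⟨v.1, v.2.1⟩, (mem_centralizer_singleton_iff.1 v.2.2).symm⟩
            invFun := fun v => ⟨v.1.1, v.1.2, mem_centralizer_singleton_iff.2 v.2.symm⟩
            left_inv := fun _ => rfl
            right_inv := fun _ => rfl }
  rw [h2]
  exact h1.symm

theorem card_mod {q : G} {n : ℕ} (hq : orderOf q = 3 ^ n) {V : Subgroup G} (hV : ∀ v ∈ V, q * v * q⁻¹ ∈ V)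
    (h1 : V ⊓ centralizer ({q} : Set G) = ⊥) : Nat.card V % 3 = 1 := by
  have h := mod_three hq (V := (V : Set G)) hV
  have h2 : Nat.card {v : (V : Set G) // q * (v : G) = v * q} = 1 := by
    have h3 : Nat.card {v : (V : Set G) // q * (v : G) = v * q} = Nat.card ↥(V ⊓ centralizer ({q} : Set G)) := by
      refine Nat.card_congr ?_
      exact { toFun := fun v => ⟨v.1.1, v.1.2, mem_centralizer_singleton_iff.2 v.2.symm⟩
              invFun := fun v => ⟨⟨v.1, v.2.1⟩, (mem_centralizer_singleton_iff.1 v.2.2).symm⟩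
              left_inv := fun _ => rfl
              right_inv := fun _ => rfl }
    rw [h3, h1, card_bot]
  rw [h2] at h
  exact h

/-- the orbit of an element of an invariant subgroup -/
theorem card_le_orbit {T V : Subgroup G} (hN : ∀ g ∈ T, ∀ v ∈ V, g * v * g⁻¹ ∈ V) {x : G} (hx : x ∈ V) (h1 : x ≠ 1) :
    Nat.card T ≤ (Nat.card V - 1) * Nat.card ↥(T ⊓ centralizer ({x} : Set G)) := by
  set K : Subgroup T := (centralizer ({x} : Set G)).subgroupOf T with hK
  have e1 : Nat.card ↥(T ⊓ centralizer ({x} : Set G)) = Nat.card K := by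
    refine Nat.card_congr ?_
    exact { toFun := fun v => ⟨⟨v.1, v.2.1⟩, v.2.2⟩
            invFun := fun v => ⟨v.1.1, v.1.2, v.2⟩
            left_inv := fun _ => rfl
            right_inv := fun _ => rfl }
  rw [e1, ← K.index_mul_card]
  refine Nat.mul_le_mul_right _ ?_
  have e2 : Nat.card {v : V // v ≠ 1} = Nat.card V - 1 := by
    classical
    have := Fintype.ofFinite V
    rw [Nat.card_eq_fintype_card, Nat.card_eq_fintype_card, Fintype.card_subtype_compl, Fintype.card_subtype_eq]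
  rw [← e2, Subgroup.index]
  refine Nat.card_le_card_of_injective (fun t : T ⧸ K => Quotient.liftOn' t
    (fun g : T => (⟨⟨(g : G) * x * (g : G)⁻¹, hN g g.2 x hx⟩, fun h => h1 (by
      have h2 := congrArg Subtype.val h
      change (g : G) * x * (g : G)⁻¹ = 1 at h2
      rw [mul_inv_eq_one] at h2
      exact mul_left_cancel (h2.trans (mul_one _).symm))⟩ : {v : V // v ≠ 1})) ?_) ?_
  · intro a b hab
    rw [QuotientGroup.leftRel_apply] at hab
    have h2 : (a : G)⁻¹ * b * x = x * ((a : G)⁻¹ * b) := mem_centralizer_singleton_iff.1 hab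
    apply Subtype.ext
    apply Subtype.ext
    change (a : G) * x * (a : G)⁻¹ = (b : G) * x * (b : G)⁻¹
    have h3 : (b : G) * x * (b : G)⁻¹ = a * ((a : G)⁻¹ * b * x) * (b : G)⁻¹ := by group
    rw [h3, h2]
    group
  · intro s t hst
    induction s using Quotient.inductionOn' with | h a => ?_
    induction t using Quotient.inductionOn' with | h b => ?_
    have h2 := congrArg Subtype.val (congrArg Subtype.val hst)
    change (a : G) * x * (a : G)⁻¹ = (b : G) * x * (b : G)⁻¹ at h2
    apply Quotient.sound'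
    rw [QuotientGroup.leftRel_apply]
    refine mem_centralizer_singleton_iff.2 ?_
    change (a : G)⁻¹ * b * x = x * ((a : G)⁻¹ * b)
    have h3 : (b : G) * x = (b : G) * x * (b : G)⁻¹ * b := by group
    rw [mul_assoc, h3, ← h2]
    group

end G

end Cfsg.Agent.H388.HNF
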